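import Cfsg.Agent.Lib.BC77.CyclicCentPair.Main
import Cfsg.Agent.Lib.TwoGroups.Recognition
import Cfsg.Agent.Lib.Linear.Order
import Cfsg.Agent.S0215
import Cfsg.Agent.S0225

/-!
# Simple groups with Sylow 2-subgroups of order eight

The statement S0993, with the theorems of Gorenstein–Walter and Walter as hypotheses.
-/

set_option autoImplicit false

universe u

namespace Cfsg.Agent.Lib.OrderEight4

open Subgroup

/-- The type of Walter's theorem for simple groups. -/
def WalterSimple : Prop :=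
  ∀ {G : Type u} [Group G] [Finite G] [IsSimpleGroup G], ¬ IsMulCommutative G → ∀ S : Sylow 2 G,
    IsMulCommutative (S : Subgroup G) →
    (∃ a : ℕ, 2 ≤ a ∧ ∃ (F : Type) (_ : Field F) (_ : Fintype F), Fintype.card F = 2 ^ a ∧
        Nonempty (G ≃* Matrix.ProjectiveSpecialLinearGroup (Fin 2) F)) ∨
      (∃ (F : Type) (_ : Field F) (_ : Fintype F), (Fintype.card F % 8 = 3 ∨ Fintype.card F % 8 = 5) ∧
        Nonempty (G ≃* Matrix.ProjectiveSpecialLinearGroup (Fin 2) F)) ∨
      Cfsg.IsRee G ∨ Cfsg.IsJ1 G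

variable {G : Type u} [Group G] [Finite G]

/-- In a non-abelian simple group no involution is central modulo an odd normal subgroup. -/
theorem not_central_mod_odd [IsSimpleGroup G] (hG : ¬ IsMulCommutative G) {z : G} (hz : orderOf z = 2)
    {N : Subgroup G} (hN : N.Normal) (hodd : Odd (Nat.card N))
    (h : ∀ g : G, z * g * z⁻¹ * g⁻¹ ∈ N) : False := by
  have hb : N = ⊥ := by
    rcases hN.eq_bot_or_eq_top with h' | h'
    · exact h'
    · rw [h', card_top] at hodd
      have := hz ▸ orderOf_dvd_natCard z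
      rw [Nat.odd_iff] at hodd
      omega
  have hc : z ∈ center G := mem_center_iff.2 fun g => by
    have h1 := h g
    rw [hb, mem_bot] at h1
    exact (commutatorElement_eq_one_iff_mul_comm.1 h1).symm
  rcases (inferInstance : (center G).Normal).eq_bot_or_eq_top with h' | h'
  · rw [h', mem_bot] at hc
    rw [hc, orderOf_one] at hz
    omega
  · exact hG ⟨⟨fun a b => (mem_center_iff.1 (h' ▸ mem_top b) a)⟩⟩

/-- The Sylow 2-subgroups of order eight of a simple group are elementary abelian or dihedral. -/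
theorem elementary_or_dihedral [IsSimpleGroup G] (hG : ¬ IsMulCommutative G) (T : Sylow 2 G)
    (hT : Nat.card (T : Subgroup G) = 8) :
    IsMulCommutative (T : Subgroup G) ∨ Nonempty ((T : Subgroup G) ≃* DihedralGroup 4) := by
  haveI : Fact (Nat.Prime 2) := ⟨Nat.prime_two⟩
  by_cases hel : ∀ x ∈ (T : Subgroup G), x * x = 1
  · exact Or.inl (le_centralizer_iff_isMulCommutative.1 fun x hx => mem_centralizer_iff.2 fun y hy => by
      have hx' : x⁻¹ = x := inv_eq_of_mul_eq_one_right (hel x hx)
      have hy' : y⁻¹ = y := inv_eq_of_mul_eq_one_right (hel y hy)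
      calc y * x = (x⁻¹ * y⁻¹)⁻¹ := by rw [mul_inv_rev, inv_inv, inv_inv]
        _ = (x * y)⁻¹ := by rw [hx', hy']
        _ = x * y := inv_eq_of_mul_eq_one_right (hel _ (mul_mem hx hy)))
  push Not at hel
  obtain ⟨a, haT, ha⟩ := hel
  -- no element of order eight and a four-group, by the theorem for 2-rank one
  have h2G : 2 ∣ Nat.card G := (Dvd.intro 4 (by omega)).trans (card_subgroup_dvd_card (T : Subgroup G))
  obtain ⟨E, hE⟩ : ∃ E : Subgroup G, IsKleinFour E := by
    by_contra hno
    push Not at hno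
    obtain ⟨z, hz, N, hN, hodd, h⟩ := S0225.result (even_iff_two_dvd.2 h2G) hno
    exact not_central_mod_odd hG hz hN hodd h
  obtain ⟨P, hP⟩ := (IsPGroup.of_card (p := 2) (n := 2) hE.card_four : IsPGroup 2 E).exists_le_sylow
  obtain ⟨c, rfl⟩ := MulAction.exists_smul_eq G P T
  -- two distinct commuting involutions in the Sylow subgroup
  have hinv : ∀ a' ∈ ((c • P : Sylow 2 G) : Subgroup G), orderOf a' = 4 →
      ∃ b ∈ ((c • P : Sylow 2 G) : Subgroup G), b * b = 1 ∧ b ∉ zpowers a' := by
    intro a' _ ho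
    by_contra hno
    push Not at hno
    have hsub : ∀ e ∈ E, c * e * c⁻¹ = 1 ∨ c * e * c⁻¹ = a' ^ 2 := by
      intro e he
      have hmem : c * e * c⁻¹ ∈ ((c • P : Sylow 2 G) : Subgroup G) := by
        rw [Sylow.coe_subgroup_smul]
        simpa using Subgroup.smul_mem_pointwise_smul (a := MulAut.conj c) e (P : Subgroup G) (hP he)
      have hsq : c * e * c⁻¹ * (c * e * c⁻¹) = 1 := by
        have := TwoGroups.Recognition.sq_of_mem_kleinFour hE he
        calc c * e * c⁻¹ * (c * e * c⁻¹) = c * (e * e) * c⁻¹ := by group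
          _ = 1 := by rw [this]; group
      obtain ⟨k, hk⟩ := mem_zpowers_iff.1 (hno _ hmem hsq)
      have hd : (4 : ℤ) ∣ 2 * k := by
        have := orderOf_dvd_iff_zpow_eq_one (x := a') (i := 2 * k)
        rw [ho] at this
        apply this.2
        rw [two_mul, zpow_add, hk, hsq]
      obtain ⟨j, rfl⟩ : (2 : ℤ) ∣ k := by omega
      rw [← hk, zpow_mul]
      rcases Int.even_or_odd j with ⟨i, rfl⟩ | ⟨i, rfl⟩
      · left
        rw [← two_mul, zpow_mul, ← zpow_mul a', show (2 : ℤ) * 2 = ((4 : ℕ) : ℤ) from rfl, zpow_natCast,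
          ← ho, pow_orderOf_eq_one, one_zpow]
      · right
        rw [zpow_add, zpow_mul, ← zpow_mul a', show (2 : ℤ) * 2 = ((4 : ℕ) : ℤ) from rfl, zpow_natCast,
          ← ho, pow_orderOf_eq_one, one_zpow, one_mul, zpow_one, zpow_two, pow_two]
    have hcard : Nat.card E ≤ 2 := by
      classical
      refine (Nat.card_le_card_of_injective (β := ({1, a' ^ 2} : Finset G))
        (fun e : E => ⟨c * (e : G) * c⁻¹, by
          rcases hsub e e.2 with h | h <;> simp [h]⟩) ?_).trans ?_
      · intro x y hxy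
        have := congrArg Subtype.val hxy
        exact Subtype.ext (mul_left_cancel (mul_right_cancel this))
      · rw [Nat.card_eq_finsetCard]
        exact Finset.card_le_two
    rw [hE.card_four] at hcard
    omega
  set T : Sylow 2 G := c • P with hTdef
  have hord : orderOf a = 4 := by
    have hd : orderOf a ∣ 2 ^ 3 := by
      have := orderOf_dvd_natCard (⟨a, haT⟩ : (T : Subgroup G))
      rwa [← Subgroup.orderOf_coe, hT] at this
    obtain ⟨i, hi, hia⟩ := (Nat.dvd_prime_pow Nat.prime_two).1 hd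
    rcases (show i = 0 ∨ i = 1 ∨ i = 2 ∨ i = 3 by omega) with rfl | rfl | rfl | rfl
    · exact absurd (show a * a = 1 by rw [orderOf_eq_one_iff.1 (by simpa using hia : orderOf a = 1), one_mul]) ha
    · exact absurd (show a * a = 1 by rw [← pow_two, ← (show orderOf a = 2 by simpa using hia), pow_orderOf_eq_one]) ha
    · exact hia
    · exfalso
      -- the subgroup would be cyclic
      have hzp : zpowers a = (T : Subgroup G) :=
        eq_of_le_of_card_ge (zpowers_le.2 haT) (by rw [hT, Nat.card_zpowers, hia]; norm_num)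
      have hsq : orderOf (a ^ 2) = 4 := by
        rw [orderOf_pow, hia]; rfl
      obtain ⟨b, hbT, hb, hbn⟩ := hinv (a ^ 2) (pow_mem haT 2) hsq
      rw [← hzp] at hbT
      obtain ⟨k, hk⟩ := mem_zpowers_iff.1 hbT
      have hd : (8 : ℤ) ∣ 2 * k := by
        have := orderOf_dvd_iff_zpow_eq_one (x := a) (i := 2 * k)
        rw [hia] at this
        exact this.2 (by rw [two_mul, zpow_add, hk, hb])
      obtain ⟨j, rfl⟩ : (2 : ℤ) ∣ k := by omega
      exact hbn (mem_zpowers_iff.2 ⟨j, by rw [← hk, zpow_mul, show (2 : ℤ) = ((2 : ℕ) : ℤ) from rfl, zpow_natCast]⟩)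
  obtain ⟨b, hbT, hb, hbn⟩ := hinv a haT hord
  set A : Subgroup (T : Subgroup G) := (zpowers a).subgroupOf T
  have hAi : A.index = 2 := by
    have h1 := A.card_mul_index
    rw [Nat.card_congr (Subgroup.subgroupOfEquivOfLe (zpowers_le.2 haT)).toEquiv, Nat.card_zpowers,
      hord, hT] at h1
    omega
  haveI : A.Normal := normal_of_index_eq_two hAi
  obtain ⟨k, hk⟩ : ∃ k : ℤ, a ^ k = b * a * b⁻¹ :=
    mem_zpowers_iff.1 ((inferInstance : A.Normal).conj_mem ⟨a, haT⟩ (mem_zpowers a) ⟨b, hbT⟩)
  by_cases hcom : b * a * b⁻¹ = a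
  · -- abelian of type (4,2): the square of `a` is isolated
    exfalso
    have hba : Commute a b := (mul_inv_eq_iff_eq_mul.1 hcom).symm
    haveI : IsMulCommutative (T : Subgroup G) := by
      have hclo : closure {a, b} = (T : Subgroup G) := by
        refine eq_of_le_of_card_ge ((closure_le _).2 (by rintro x (rfl | rfl) <;> assumption)) ?_
        rw [hT]
        have hle : zpowers a ≤ closure {a, b} := zpowers_le.2 (subset_closure (by simp))
        have hne : zpowers a ≠ closure {a, b} := fun h => hbn (h ▸ subset_closure (by simp))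
        have hd := card_dvd_of_le hle
        rw [Nat.card_zpowers, hord] at hd
        obtain ⟨m, hm⟩ := hd
        have hpos : 0 < Nat.card (closure {a, b} : Subgroup G) := Nat.card_pos
        rcases (show m = 1 ∨ 2 ≤ m by omega) with rfl | hm2
        · exact absurd (eq_of_le_of_card_ge hle (by rw [hm, Nat.card_zpowers, hord])) hne
        · omega
      rw [← hclo]
      exact isMulCommutative_closure (by
        rintro x (rfl | rfl) y (rfl | rfl) <;>
          first
            | exact rfl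
            | exact hba
            | exact hba.symm)
    have hsquare : ∀ x ∈ (T : Subgroup G), x * x = 1 ∨ x * x = a ^ 2 := by
      intro x hx
      obtain ⟨i, hi⟩ : ∃ i : ℤ, a ^ i = x ∨ a ^ i = x * b⁻¹ := by
        by_cases hxA : (⟨x, hx⟩ : (T : Subgroup G)) ∈ A
        · obtain ⟨i, hi⟩ := mem_zpowers_iff.1 hxA
          exact ⟨i, Or.inl hi⟩
        · have hbA : (⟨b, hbT⟩ : (T : Subgroup G)) ∉ A := hbn
          have : (⟨x, hx⟩ * ⟨b, hbT⟩⁻¹ : (T : Subgroup G)) ∈ A := by
            rw [mul_mem_iff_of_index_two hAi, inv_mem_iff]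
            exact iff_of_false hxA hbA
          obtain ⟨i, hi⟩ := mem_zpowers_iff.1 this
          exact ⟨i, Or.inr hi⟩
      have h4 : ∀ j : ℤ, a ^ (4 * j) = 1 := fun j => by
        rw [zpow_mul, show (4 : ℤ) = ((4 : ℕ) : ℤ) from rfl, zpow_natCast, ← hord, pow_orderOf_eq_one,
          one_zpow]
      have hxx : x * x = a ^ (2 * i) := by
        rcases hi with hi | hi
        · rw [← hi, two_mul, zpow_add]
        · have hx' : x = a ^ i * b := by rw [hi, inv_mul_cancel_right]
          have hc' : Commute (a ^ i) b := hba.zpow_left i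
          rw [hx', mul_assoc, ← mul_assoc b, ← hc'.eq, mul_assoc (a ^ i) b b, hb, mul_one, two_mul,
            zpow_add]
      rw [hxx]
      rcases Int.even_or_odd i with ⟨j, rfl⟩ | ⟨j, rfl⟩
      · left
        rw [show 2 * (j + j) = 4 * j by ring]
        exact h4 j
      · right
        rw [show 2 * (2 * j + 1) = 4 * j + 2 by ring, zpow_add, h4, one_mul,
          show (2 : ℤ) = ((2 : ℕ) : ℤ) from rfl, zpow_natCast]
    have hz : orderOf (a ^ 2) = 2 := by rw [orderOf_pow, hord]; rfl
    suffices hiso : ∀ g : G, g * a ^ 2 * g⁻¹ ∈ T → g * a ^ 2 * g⁻¹ = a ^ 2 by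
      obtain ⟨N, hN, hodd, h⟩ := S0215.result T (a ^ 2) hz (pow_mem haT 2) hiso
      exact not_central_mod_odd hG hz hN hodd h
    intro g hg
    -- fusion in an abelian Sylow subgroup is controlled by its normaliser
    have hle : (T : Subgroup G) ≤ centralizer {a ^ 2} := fun x hx =>
      mem_centralizer_singleton_iff.2 (congrArg Subtype.val
        (mul_comm' (⟨x, hx⟩ : (T : Subgroup G)) ⟨a ^ 2, pow_mem haT 2⟩))
    obtain ⟨n, hn, hn'⟩ := Sylow.conj_eq_normalizer_conj_of_mem T (a ^ 2) g⁻¹ (pow_mem haT 2)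
      (by simpa using hg)
    simp only [inv_inv] at hn'
    rw [hn']
    have hmem : n⁻¹ * a * n ∈ (T : Subgroup G) := by
      have := (mem_normalizer_iff.1 (inv_mem hn) a).1 haT
      simpa using this
    have hid : n⁻¹ * a * n * (n⁻¹ * a * n) = n⁻¹ * a ^ 2 * n := by
      rw [pow_two]; group
    rcases hsquare _ hmem with h | h
    · rw [hid] at h
      have : a ^ 2 = 1 := by
        calc a ^ 2 = n * (n⁻¹ * a ^ 2 * n) * n⁻¹ := by group
          _ = 1 := by rw [h]; group
      rw [this, orderOf_one] at hz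
      omega
    · rw [← hid]; exact h
  · right
    have hk' : b * a * b⁻¹ = a⁻¹ := by
      have hoc : orderOf (b * a * b⁻¹) = 4 := hord ▸ (MulEquiv.orderOf_eq (MulAut.conj b) a)
      rw [← hk] at hoc hcom ⊢
      have hk4 : a ^ k = a ^ (k % 4) := by rw [← zpow_mod_orderOf a k, hord]; rfl
      rw [hk4] at hoc hcom ⊢
      have : k % 4 = 0 ∨ k % 4 = 1 ∨ k % 4 = 2 ∨ k % 4 = 3 := by omega
      rcases this with h | h | h | h <;> rw [h] at hoc hcom ⊢
      · rw [zpow_zero, orderOf_one] at hoc; omega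
      · exact absurd (zpow_one a) hcom
      · rw [zpow_two, ← pow_two, orderOf_pow, hord] at hoc
        norm_num at hoc
      · rw [show (3 : ℤ) = ((4 : ℕ) : ℤ) - 1 from rfl, zpow_sub, zpow_natCast, ← hord,
          pow_orderOf_eq_one, one_mul, zpow_one]
    exact TwoGroups.Recognition.nonempty_dihedral_subgroup haT hbT hord hb hk' hbn hT

/-- **Simple groups with Sylow 2-subgroups of order eight**, given Gorenstein–Walter and Walter. -/
theorem main (hGW : BC77.QuatCyclic.GWPerfect.{u}) (hW : WalterSimple.{u}) [IsSimpleGroup G]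
    (hG : ¬ IsMulCommutative G) (T : Sylow 2 G) (hT : Nat.card ↥(T : Subgroup G) = 8) :
    (∃ (F : Type) (_ : Field F) (_ : Fintype F), Fintype.card F = 8 ∧
        Nonempty (G ≃* Matrix.ProjectiveSpecialLinearGroup (Fin 2) F)) ∨
      (∃ (F : Type) (_ : Field F) (_ : Fintype F), (Fintype.card F % 16 = 7 ∨ Fintype.card F % 16 = 9) ∧
        Nonempty (G ≃* Matrix.ProjectiveSpecialLinearGroup (Fin 2) F)) ∨
      Nonempty (G ≃* alternatingGroup (Fin 7)) ∨ Cfsg.IsJ1 G ∨ Cfsg.IsRee G := by
  haveI : Fact (Nat.Prime 2) := ⟨Nat.prime_two⟩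
  have h8 : 8 ∣ Nat.card G ∧ ¬ 16 ∣ Nat.card G := by
    refine ⟨hT ▸ card_subgroup_dvd_card _, fun h16 => ?_⟩
    rw [T.card_eq_multiplicity] at hT
    have h := (Nat.prime_two.pow_dvd_iff_le_factorization (Nat.card_pos (α := G)).ne').1
      (show 2 ^ 4 ∣ Nat.card G from h16)
    have : (Nat.card G).factorization 2 = 3 :=
      Nat.pow_right_injective le_rfl (hT.trans (by norm_num))
    omega
  -- orders of the linear groups in two dimensions
  have hodd : ∀ (F : Type) [Field F] [Fintype F], Odd (Fintype.card F) →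
      (G ≃* Matrix.ProjectiveSpecialLinearGroup (Fin 2) F) →
      Fintype.card F % 16 = 7 ∨ Fintype.card F % 16 = 9 := by
    intro F _ _ ho e
    have hc := Linear.two_mul_card_PSL_two_of_odd (F := F) ho
    rw [← Nat.card_congr e.toEquiv] at hc
    obtain ⟨m, hm⟩ := h8.1
    have hm2 : m % 2 = 1 := by
      rcases Nat.mod_two_eq_zero_or_one m with h | h
      · exact absurd (hm ▸ (show 16 ∣ 8 * m by omega)) h8.2
      · exact h
    rw [hm] at hc
    have hcu : Fintype.card F ^ 3 = 16 * m + Fintype.card F := by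
      have h1 : 1 ≤ Fintype.card F := Fintype.card_pos
      obtain ⟨j, hj⟩ : ∃ j, Fintype.card F = j + 1 := ⟨_, (Nat.sub_add_cancel h1).symm⟩
      rw [hj] at hc ⊢
      rw [Nat.add_sub_cancel] at hc
      nlinarith [hc]
    obtain ⟨i, r, hr, hq⟩ : ∃ i r, r < 32 ∧ Fintype.card F = 32 * i + r :=
      ⟨_, _, Nat.mod_lt _ (by norm_num), (Nat.div_add_mod _ 32).symm⟩
    rw [Nat.odd_iff] at ho
    rw [hq, show (32 * i + r) ^ 3 = r ^ 3 + 32 * (1024 * i ^ 3 + 96 * i ^ 2 * r + 3 * i * r ^ 2) by ring]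
      at hcu
    interval_cases r <;> omega
  rcases elementary_or_dihedral hG T hT with hab | ⟨⟨e⟩⟩
  · rcases hW hG T hab with ⟨a, ha, F, iF, iF', hF, ⟨e⟩⟩ | ⟨F, iF, iF', hF, ⟨e⟩⟩ | h | h
    · left
      refine ⟨F, iF, iF', ?_, ⟨e⟩⟩
      have he : Even (Fintype.card F) := by
        rw [hF]; exact (Nat.even_pow.2 ⟨even_two, by omega⟩)
      have hc := Linear.card_PSL_two_of_even (F := F) he
      rw [← Nat.card_congr e.toEquiv] at hc
      rw [hF] at hc
      rcases (show a = 2 ∨ a = 3 ∨ 4 ≤ a by omega) with rfl | rfl | h4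
      · norm_num at hc; omega
      · rw [hF]; norm_num
      · exfalso
        apply h8.2
        rw [hc]
        exact dvd_mul_of_dvd_left (dvd_mul_of_dvd_left ((show 16 = 2 ^ 4 by norm_num) ▸ Nat.pow_dvd_pow 2 h4) _) _
    · exfalso
      have := hodd F (Nat.odd_iff.2 (by omega)) e
      omega
    · exact Or.inr (Or.inr (Or.inr (Or.inr h)))
    · exact Or.inr (Or.inr (Or.inr (Or.inl h)))
  · rcases BC77.CyclicCentPair.gw_simple hGW (fun h => hG ⟨⟨h⟩⟩) T e with
      ⟨F, iF, iF', hF, -, ⟨f⟩⟩ | h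
    · exact Or.inr (Or.inl ⟨F, iF, iF', hodd F hF f, ⟨f⟩⟩)
    · exact Or.inr (Or.inr (Or.inl h))

end Cfsg.Agent.Lib.OrderEight4
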